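import Cfsg.Agent.Lib.Extraspecial.Basic
import Mathlib

/-!
Maximal abelian subgroups of extraspecial `2`-groups and the number of elements of order `4` in those of
plus type.

Owner: helper19.
-/

set_option autoImplicit false

open scoped commutatorElement

namespace Cfsg.Agent.Lib.Extraspecial

variable {E : Type*} [Group E] {z : E}

theorem two_cases (h : ESData 2 z) {w : E} (hw : w ∈ Subgroup.zpowers z) : w = 1 ∨ w = z := by
  obtain ⟨k, rfl⟩ := Subgroup.mem_zpowers_iff.1 hw
  rcases Int.even_or_odd' k with ⟨j, rfl | rfl⟩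
  · left; rw [zpow_mul, show (2 : ℤ) = ((2 : ℕ) : ℤ) from rfl, zpow_natCast, h.z_pow, one_zpow]
  · right; rw [zpow_add_one, zpow_mul, show (2 : ℤ) = ((2 : ℕ) : ℤ) from rfl, zpow_natCast, h.z_pow, one_zpow, one_mul]

/-- The centralizer of an element has index at most two in every subgroup. -/
theorem relIndex_centralizer_le (h : ESData 2 z) [Finite E] (K : Subgroup E) (x : E) :
    Nat.card K ≤ 2 * Nat.card (K ⊓ Subgroup.centralizer ({x} : Set E) : Subgroup E) := by
  let φ : K →* E :=
    { toFun := fun k => ⁅(k : E), x⁆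
      map_one' := commutatorElement_one_left x
      map_mul' := fun a b => comm_mul_left h a b x }
  have hker : φ.ker = (K ⊓ Subgroup.centralizer ({x} : Set E)).subgroupOf K := by
    ext k
    rw [MonoidHom.mem_ker, Subgroup.mem_subgroupOf, Subgroup.mem_inf, Subgroup.mem_centralizer_singleton_iff]
    exact commutatorElement_eq_one_iff_mul_comm.trans ⟨fun hk => ⟨k.2, hk⟩, fun hk => hk.2⟩
  have hr : Nat.card φ.range ≤ 2 := by
    refine (Subgroup.card_le_of_le (show φ.range ≤ Subgroup.zpowers z from ?_)).trans ?_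
    · rintro _ ⟨k, rfl⟩; exact h.comm_mem _ _
    · rw [Nat.card_zpowers]; exact orderOf_le_of_pow_eq_one two_pos h.z_pow
  have h1 := Subgroup.card_mul_index φ.ker
  rw [Subgroup.index_ker, hker, Nat.card_congr (Subgroup.subgroupOfEquivOfLe inf_le_left).toEquiv] at h1
  rw [← h1, mul_comm 2]
  exact Nat.mul_le_mul_left _ hr

/-- Enlarging a subgroup shrinks its centralizer by at most the same factor. -/
theorem card_centralizer_mul_le (h : ESData 2 z) [Finite E] (K H : Subgroup E) (hKH : K ≤ H)
    (hz : z ∈ K) :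
    Nat.card (Subgroup.centralizer (K : Set E)) * Nat.card K ≤
      Nat.card (Subgroup.centralizer (H : Set E)) * Nat.card H := by
  induction H using WellFoundedLT.induction with
  | _ H ih =>
    rcases eq_or_lt_of_le hKH with rfl | hlt
    · exact le_rfl
    obtain ⟨L, hKL, hL⟩ : ∃ L : Subgroup E, K ≤ L ∧ L ⋖ H := by
      obtain ⟨L, hKL, hmax⟩ := Finite.exists_le_maximal (p := fun L : Subgroup E => K ≤ L ∧ L < H) ⟨le_rfl, hlt⟩
      exact ⟨L, hKL, hmax.1.2, fun L' h1 h2 => hmax.not_gt ⟨hKL.trans h1.le, h2⟩ h1⟩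
    obtain ⟨x, hxH, hxL⟩ := SetLike.exists_of_lt hL.1
    have hn : Subgroup.zpowers x ≤ Subgroup.normalizer (L : Set E) := by
      refine Subgroup.zpowers_le.2 (Subgroup.mem_normalizer_iff.2 ?_)
      have key : ∀ y : E, ∀ a ∈ L, y * a * y⁻¹ ∈ L := fun y a ha => by
        rw [show y * a * y⁻¹ = ⁅y, a⁆ * a by rw [commutatorElement_def]; group]
        exact mul_mem (Subgroup.zpowers_le.2 (hKL hz) (h.comm_mem y a)) ha
      exact fun a => ⟨key x a, fun ha => by simpa [mul_assoc] using key x⁻¹ _ ha⟩
    have hH : Subgroup.zpowers x ⊔ L = H := by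
      refine (eq_or_lt_of_le (sup_le (Subgroup.zpowers_le.2 hxH) hL.1.le)).resolve_right fun h2 => ?_
      exact hL.2 (lt_of_le_of_ne le_sup_right fun e =>
        hxL (e ▸ Subgroup.mem_sup_left (Subgroup.mem_zpowers x))) h2
    have hcard : 2 * Nat.card L ≤ Nat.card H := by
      obtain ⟨c, hc⟩ := Subgroup.card_dvd_of_le hL.1.le
      rw [hc, mul_comm 2]
      refine Nat.mul_le_mul_left _ ?_
      by_contra hcon
      have h0 : 0 < Nat.card H := Nat.card_pos
      obtain rfl : c = 1 := by
        rcases c with - | - | c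
        · simp [hc] at h0
        · rfl
        · omega
      exact hL.1.ne (Subgroup.eq_of_le_of_card_ge hL.1.le (by rw [hc, mul_one]))
    have hC : Subgroup.centralizer (L : Set E) ⊓ Subgroup.centralizer ({x} : Set E) ≤
        Subgroup.centralizer (H : Set E) := by
      intro c hc
      rw [Subgroup.mem_centralizer_iff]
      intro a ha
      rw [← hH] at ha
      have : (Subgroup.zpowers x ⊔ L) ≤ Subgroup.centralizer ({c} : Set E) := by
        refine sup_le (Subgroup.zpowers_le.2 ?_) fun l hl => ?_
        · exact Subgroup.mem_centralizer_singleton_iff.2 (Subgroup.mem_centralizer_singleton_iff.1 hc.2).symm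
        · exact Subgroup.mem_centralizer_singleton_iff.2 (Subgroup.mem_centralizer_iff.1 hc.1 l hl)
      exact Subgroup.mem_centralizer_singleton_iff.1 (this ha)
    calc Nat.card (Subgroup.centralizer (K : Set E)) * Nat.card K
        ≤ Nat.card (Subgroup.centralizer (L : Set E)) * Nat.card L := ih L hL.1 hKL
      _ ≤ 2 * Nat.card (Subgroup.centralizer (L : Set E) ⊓ Subgroup.centralizer ({x} : Set E) : Subgroup E) *
            Nat.card L := Nat.mul_le_mul_right _ (relIndex_centralizer_le h _ x)
      _ ≤ 2 * Nat.card (Subgroup.centralizer (H : Set E)) * Nat.card L :=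
            Nat.mul_le_mul_right _ (Nat.mul_le_mul_left _ (Subgroup.card_le_of_le hC))
      _ ≤ Nat.card (Subgroup.centralizer (H : Set E)) * Nat.card H := by
            rw [mul_comm 2, mul_assoc]; exact Nat.mul_le_mul_left _ hcard

theorem sq_card_le_of_comm (h : ESData 2 z) [Finite E] (B : Subgroup E) (hz : z ∈ B)
    (hB : ∀ a ∈ B, ∀ b ∈ B, a * b = b * a) : Nat.card B ^ 2 ≤ 2 * Nat.card E := by
  have h1 := card_centralizer_mul_le h B ⊤ le_top hz
  have h2 : Nat.card (Subgroup.centralizer ((⊤ : Subgroup E) : Set E)) ≤ 2 := by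
    refine (Subgroup.card_le_of_le (show _ ≤ Subgroup.zpowers z from ?_)).trans ?_
    · intro c hc
      exact (h.mem_center c).1 (Subgroup.mem_center_iff.2 fun g =>
        Subgroup.mem_centralizer_iff.1 hc g (Subgroup.mem_top g))
    · rw [Nat.card_zpowers]; exact orderOf_le_of_pow_eq_one two_pos h.z_pow
  rw [Subgroup.card_top] at h1
  calc Nat.card B ^ 2 = Nat.card B * Nat.card B := sq _
    _ ≤ Nat.card (Subgroup.centralizer (B : Set E)) * Nat.card B :=
        Nat.mul_le_mul_right _ (Subgroup.card_le_of_le fun b hb =>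
          Subgroup.mem_centralizer_iff.2 fun a ha => hB a ha b hb)
    _ ≤ _ := h1.trans (Nat.mul_le_mul_right _ h2)

/-- In an extraspecial group of plus type exactly `2^(2m) + 2^m` elements square to `1`. -/
theorem card_sq_eq_one [Finite E] {m : ℕ} (h : ESData 2 z) (hcard : Nat.card E = 2 ^ (2 * m + 1))
    {A : Subgroup E} (hA : ∀ a ∈ A, ∀ b ∈ A, a * b = b * a) (hA2 : ∀ a ∈ A, a * a = 1)
    (hAc : Nat.card A = 2 ^ (m + 1)) :
    Nat.card {x : E // x * x = 1} = 2 ^ (2 * m) + 2 ^ m := by
  classical
  haveI := Fintype.ofFinite E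
  have hzc : ∀ g : E, g * z = z * g := commute_z h
  have hzA : z ∈ A := by
    by_contra hzA
    let B : Subgroup E :=
      { carrier := {b | b ∈ A ∨ b * z ∈ A}
        one_mem' := Or.inl (one_mem A)
        mul_mem' := fun {a b} ha hb => by
          have hz2 : z * z = 1 := by rw [← sq]; exact h.z_pow
          rcases ha with ha | ha <;> rcases hb with hb | hb
          · exact Or.inl (mul_mem ha hb)
          · exact Or.inr (by rw [mul_assoc]; exact mul_mem ha hb)
          · exact Or.inr (by rw [mul_assoc, hzc b, ← mul_assoc]; exact mul_mem ha hb)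
          · refine Or.inl ?_
            have h1 := mul_mem ha hb
            rwa [show a * z * (b * z) = a * (z * b) * z by group, ← hzc b,
              show a * (b * z) * z = a * b * (z * z) by group, hz2, mul_one] at h1
        inv_mem' := fun {a} ha => by
          rcases ha with ha | ha
          · exact Or.inl (inv_mem ha)
          · refine Or.inr ?_
            have h1 := inv_mem ha
            rwa [mul_inv_rev, show z⁻¹ = z from inv_eq_of_mul_eq_one_right (by rw [← sq]; exact h.z_pow),
              ← hzc] at h1 }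
    have hB : ∀ a ∈ B, ∀ b ∈ B, a * b = b * a := by
      have key : ∀ a, a ∈ B → ∃ c ∈ A, ∃ d, d ∈ Subgroup.center E ∧ a = c * d := fun a ha => by
        rcases ha with ha | ha
        · exact ⟨a, ha, 1, one_mem _, (mul_one a).symm⟩
        · exact ⟨a * z, ha, z⁻¹, inv_mem ((h.mem_center z).2 (Subgroup.mem_zpowers z)),
            (mul_inv_cancel_right a z).symm⟩
      intro a ha b hb
      obtain ⟨c, hc, d, hd, rfl⟩ := key a ha
      obtain ⟨c', hc', d', hd', rfl⟩ := key b hb
      have h1 := Subgroup.mem_center_iff.1 hd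
      have h2 := Subgroup.mem_center_iff.1 hd'
      calc c * d * (c' * d') = c * (d * c') * d' := by group
        _ = c * c' * (d * d') := by rw [← h1 c']; group
        _ = c' * c * (d' * d) := by rw [hA c hc c' hc', h2 d]
        _ = c' * (c * d') * d := by group
        _ = c' * d' * (c * d) := by rw [h2 c]; group
    have hlt : 2 * Nat.card A ≤ Nat.card B := by
      obtain ⟨k, hk⟩ := Subgroup.card_dvd_of_le (show A ≤ B from fun a ha => Or.inl ha)
      rw [hk, mul_comm 2]
      refine Nat.mul_le_mul_left _ ?_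
      by_contra hcon
      have h0 : 0 < Nat.card B := Nat.card_pos
      obtain rfl : k = 1 := by
        rcases k with - | - | k
        · rw [hk, mul_zero] at h0; omega
        · rfl
        · omega
      have hzB : z ∈ B := Or.inr (by rw [← sq, h.z_pow]; exact one_mem A)
      exact hzA ((Subgroup.eq_of_le_of_card_ge (show A ≤ B from fun a ha => Or.inl ha)
        (by rw [hk, mul_one])).symm ▸ hzB)
    have h3 := sq_card_le_of_comm h B (Or.inr (by rw [← sq, h.z_pow]; exact one_mem A)) hB
    rw [hAc] at hlt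
    rw [hcard] at h3
    have h4 : (2 * 2 ^ (m + 1)) ^ 2 ≤ 2 * 2 ^ (2 * m + 1) := (Nat.pow_le_pow_left hlt 2).trans h3
    rw [show (2 : ℕ) ^ (2 * m + 1) = 2 ^ m * 2 ^ m * 2 by rw [pow_succ, two_mul, pow_add],
      show (2 : ℕ) ^ (m + 1) = 2 ^ m * 2 from pow_succ 2 m] at h4
    have hX : 0 < 2 ^ m * 2 ^ m := by positivity
    nlinarith [hX]
  -- `A` is its own centraliser
  have hself : ∀ g : E, (∀ a ∈ A, g * a = a * g) → g ∈ A := by
    intro g hg
    by_contra hgA
    let B : Subgroup E := A ⊔ Subgroup.zpowers g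
    have hB : ∀ a ∈ B, ∀ b ∈ B, a * b = b * a := by
      haveI hc : IsMulCommutative (Subgroup.closure ((A : Set E) ∪ {g})) := by
        refine Subgroup.isMulCommutative_closure ?_
        rintro a (ha | rfl) b (hb | rfl)
        · exact hA a ha b hb
        · exact (hg a ha).symm
        · exact hg b hb
        · rfl
      have hBeq : B = Subgroup.closure ((A : Set E) ∪ {g}) := by
        rw [Subgroup.closure_union, Subgroup.closure_eq, ← Subgroup.zpowers_eq_closure]
      intro a ha b hb
      rw [hBeq] at ha hb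
      exact congrArg Subtype.val (hc.is_comm.comm ⟨a, ha⟩ ⟨b, hb⟩)
    have hlt : 2 * Nat.card A ≤ Nat.card B := by
      obtain ⟨k, hk⟩ := Subgroup.card_dvd_of_le (show A ≤ B from le_sup_left)
      rw [hk, mul_comm 2]
      refine Nat.mul_le_mul_left _ ?_
      by_contra hcon
      have h0 : 0 < Nat.card B := Nat.card_pos
      obtain rfl : k = 1 := by
        rcases k with - | - | k
        · rw [hk, mul_zero] at h0; omega
        · rfl
        · omega
      exact hgA ((Subgroup.eq_of_le_of_card_ge (show A ≤ B from le_sup_left) (by rw [hk, mul_one])).symm ▸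
        Subgroup.mem_sup_right (Subgroup.mem_zpowers g))
    have h3 := sq_card_le_of_comm h B (le_sup_left (a := A) hzA) hB
    rw [hAc] at hlt
    rw [hcard] at h3
    have h4 : (2 * 2 ^ (m + 1)) ^ 2 ≤ 2 * 2 ^ (2 * m + 1) := (Nat.pow_le_pow_left hlt 2).trans h3
    rw [show (2 : ℕ) ^ (2 * m + 1) = 2 ^ m * 2 ^ m * 2 by rw [pow_succ, two_mul, pow_add],
      show (2 : ℕ) ^ (m + 1) = 2 ^ m * 2 from pow_succ 2 m] at h4
    have hX : 0 < 2 ^ m * 2 ^ m := by positivity
    nlinarith [hX]
  -- count the square roots of one coset by coset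
  let T : Finset E := Finset.univ.filter fun x => x * x = 1
  have hsq : ∀ g : E, ∀ a ∈ A, g * a * (g * a) = g * g * ⁅g⁻¹, a⁆ := fun g a ha => by
    have ha1 : a⁻¹ = a := inv_eq_of_mul_eq_one_right (hA2 a ha)
    rw [commutatorElement_def, inv_inv, ha1]
    group
  have hcoset : ∀ g : E, g ∉ A → 2 * (Finset.univ.filter fun a : A => (g * (a : E)) * (g * (a : E)) = 1).card =
      Fintype.card A := by
    intro g hg
    obtain ⟨a₀, ha₀, hne⟩ : ∃ a₀ ∈ A, ⁅g⁻¹, a₀⁆ = z := by
      by_contra hall
      push Not at hall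
      refine hg (hself g fun a ha => ?_)
      have h1 := (two_cases h (h.comm_mem g⁻¹ a)).resolve_right (hall a ha)
      have h2 := commutatorElement_eq_one_iff_mul_comm.1 h1
      calc g * a = g * (a * g⁻¹) * g := by group
        _ = g * (g⁻¹ * a) * g := by rw [h2]
        _ = a * g := by group
    have hflip : ∀ a : A, ((g * a) * (g * a) = 1 ↔ ¬ (g * (a * a₀ : E)) * (g * (a * a₀ : E)) = 1) := by
      intro a
      have h1 : ⁅g⁻¹, (a : E) * a₀⁆ = ⁅g⁻¹, (a : E)⁆ * z := by
        have h2 : ⁅g⁻¹, (a : E) * a₀⁆ = ⁅g⁻¹, (a : E)⁆ * ((a : E) * ⁅g⁻¹, a₀⁆ * (a : E)⁻¹) := by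
          rw [commutatorElement_def, commutatorElement_def, commutatorElement_def]; group
        rw [h2, hne, hzc, mul_inv_cancel_right]
      rw [hsq g a a.2, hsq g (a * a₀) (mul_mem a.2 ha₀), h1, ← mul_assoc]
      have hmem : g * g * ⁅g⁻¹, (a : E)⁆ ∈ Subgroup.zpowers z :=
        mul_mem (by rw [← sq]; exact h.pow_mem g) (h.comm_mem _ _)
      rcases two_cases h hmem with e | e <;> rw [e]
      · simp [h.z_ne]
      · rw [show z * z = 1 by rw [← sq]; exact h.z_pow]; simp [h.z_ne]
    let σ : A ≃ A := Equiv.mulRight ⟨a₀, ha₀⟩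
    have hc : (Finset.univ.filter fun a : A => (g * (a : E)) * (g * (a : E)) = 1).card =
        (Finset.univ.filter fun a : A => ¬ (g * (a : E)) * (g * (a : E)) = 1).card := by
      refine Finset.card_equiv σ fun a => ?_
      simp only [Finset.mem_filter, Finset.mem_univ, true_and]
      exact hflip a
    rw [two_mul]
    nth_rewrite 2 [hc]
    exact Finset.card_filter_add_card_filter_not _
  -- sum over translations
  have hsum : ∑ g : E, (Finset.univ.filter fun a : A => (g * (a : E)) * (g * (a : E)) = 1).card =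
      Fintype.card A * T.card := by
    simp only [Finset.card_filter]
    rw [Finset.sum_comm]
    have : ∀ a : A, ∑ g : E, (if (g * a) * (g * a) = 1 then 1 else 0) = T.card := fun a => by
      rw [Finset.card_filter]
      exact Equiv.sum_comp (Equiv.mulRight (a : E)) (fun x => if x * x = 1 then 1 else 0)
    simp [this]
  have hin : ∀ g ∈ A, (Finset.univ.filter fun a : A => (g * (a : E)) * (g * (a : E)) = 1).card = Fintype.card A := by
    intro g hg
    rw [Finset.filter_true_of_mem fun (a : A) _ => hA2 _ (mul_mem hg a.2), Finset.card_univ]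
  have hAf : (Finset.univ.filter fun g : E => g ∈ A).card = Fintype.card A :=
    (Fintype.card_subtype _).symm
  have hcount : 2 * (Fintype.card A * T.card) = Fintype.card A * (Fintype.card E + Fintype.card A) := by
    rw [← hsum, Finset.mul_sum, ← Finset.sum_filter_add_sum_filter_not Finset.univ (fun g => g ∈ A),
      Finset.sum_congr rfl fun g hg => by rw [hin g (Finset.mem_filter.1 hg).2],
      Finset.sum_congr rfl fun g hg => hcoset g (Finset.mem_filter.1 hg).2, Finset.sum_const, Finset.sum_const,
      hAf, smul_eq_mul, smul_eq_mul]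
    have h1 := Finset.card_filter_add_card_filter_not (s := (Finset.univ : Finset E)) (fun g => g ∈ A)
    rw [Finset.card_univ, hAf] at h1
    rw [← h1]
    ring
  have hT : Nat.card {x : E // x * x = 1} = T.card := by
    rw [Nat.card_eq_fintype_card, Fintype.card_subtype]
  have h5 : 2 * T.card = Fintype.card E + Fintype.card A :=
    Nat.eq_of_mul_eq_mul_left Fintype.card_pos (by rw [← hcount]; ring)
  rw [← Nat.card_eq_fintype_card, ← Nat.card_eq_fintype_card, hcard, hAc, ← hT, pow_succ, pow_succ] at h5
  omega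

end Cfsg.Agent.Lib.Extraspecial
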