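import Cfsg.Agent.Lib.Extraspecial.Classify
import Cfsg.Agent.Lib.Extraspecial.PlusCount
import Cfsg.Prelude.Def_Classical
import Cfsg.Prelude.Def_KGroupFacts
import Mathlib

/-!
# Extraspecial `2`-groups from bilinear forms, and their outer automorphisms

Owner: helper83.  For a square matrix `B` over `ZMod 2` with `(B + Bᵀ)² = 1` the central extension `Model B`
with cocycle `v ⬝ B w` is extraspecial and its outer automorphism group is the isometry group of the
quadratic form `v ⬝ B v`.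
-/

set_option autoImplicit false
set_option linter.unusedSectionVars false

open scoped commutatorElement
open Matrix

namespace Cfsg.Agent.Lib.Extraspecial.OutModel

abbrev F2 := ZMod 2

variable {ι : Type} [Fintype ι] [DecidableEq ι] (B : Matrix ι ι F2)

/-- The quadratic form. -/
def qf (v : ι → F2) : F2 := v ⬝ᵥ B *ᵥ v

/-- The central extension with cocycle `v ⬝ B w`. -/
@[ext] structure Model (B : Matrix ι ι F2) where
  v : ι → F2
  c : F2

instance : Mul (Model B) := ⟨fun x y => ⟨x.v + y.v, x.c + y.c + x.v ⬝ᵥ B *ᵥ y.v⟩⟩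
instance : One (Model B) := ⟨⟨0, 0⟩⟩
instance : Inv (Model B) := ⟨fun x => ⟨x.v, x.c + qf B x.v⟩⟩

theorem mul_v (x y : Model B) : (x * y).v = x.v + y.v := rfl
theorem mul_c (x y : Model B) : (x * y).c = x.c + y.c + x.v ⬝ᵥ B *ᵥ y.v := rfl
theorem one_v : (1 : Model B).v = 0 := rfl
theorem one_c : (1 : Model B).c = 0 := rfl
theorem inv_v (x : Model B) : x⁻¹.v = x.v := rfl
theorem inv_c (x : Model B) : x⁻¹.c = x.c + qf B x.v := rfl

instance : Group (Model B) where
  mul_assoc a b c := by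
    ext
    · simp only [mul_v, add_assoc]
    · simp only [mul_c, mul_v, Matrix.mulVec_add, add_dotProduct, dotProduct_add]
      abel
  one_mul a := by ext <;> simp [mul_v, mul_c, one_v, one_c]
  mul_one a := by ext <;> simp [mul_v, mul_c, one_v, one_c]
  inv_mul_cancel a := by
    refine Model.ext (funext fun i => CharTwo.add_self_eq_zero (a.v i)) ?_
    simp only [mul_c, inv_c, inv_v, one_c, qf]
    rw [show a.c + a.v ⬝ᵥ B *ᵥ a.v + a.c + a.v ⬝ᵥ B *ᵥ a.v =
      (a.c + a.c) + (a.v ⬝ᵥ B *ᵥ a.v + a.v ⬝ᵥ B *ᵥ a.v) by abel,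
      CharTwo.add_self_eq_zero, CharTwo.add_self_eq_zero, add_zero]

/-- Pairs. -/
def equivPair : Model B ≃ (ι → F2) × F2 where
  toFun x := (x.v, x.c)
  invFun x := ⟨x.1, x.2⟩
  left_inv _ := rfl
  right_inv _ := rfl

instance : Finite (Model B) := Finite.of_equiv _ (equivPair B).symm

theorem card_model : Nat.card (Model B) = 2 ^ (Fintype.card ι + 1) := by
  rw [Nat.card_congr (equivPair B), Nat.card_prod, Nat.card_fun, Nat.card_zmod, pow_succ,
    Nat.card_eq_fintype_card]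

theorem f2_cases : ∀ x : F2, x = 0 ∨ x = 1 := by decide

theorem vec_add_self (v : ι → F2) : v + v = 0 := funext fun _ => CharTwo.add_self_eq_zero _

theorem sq_eq (x : Model B) : x * x = ⟨0, qf B x.v⟩ := by
  refine Model.ext (vec_add_self x.v) ?_
  simp [mul_c, CharTwo.add_self_eq_zero, qf]

/-- The central involution. -/
def zed : Model B := ⟨0, 1⟩

theorem mem_zpowers_zed {x : Model B} : x ∈ Subgroup.zpowers (zed B) ↔ x.v = 0 := by
  constructor
  · rintro ⟨k, rfl⟩
    induction k using Int.induction_on with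
    | zero => rfl
    | succ k ih =>
      change (zed B ^ ((k : ℤ) + 1)).v = 0
      change (zed B ^ (k : ℤ)).v = 0 at ih
      rw [_root_.zpow_add_one, mul_v, ih]
      simp [zed]
    | pred k ih =>
      change (zed B ^ (-(k : ℤ) - 1)).v = 0
      change (zed B ^ (-(k : ℤ))).v = 0 at ih
      rw [_root_.zpow_sub_one, mul_v, ih, inv_v]
      simp [zed]
  · intro h
    rcases f2_cases x.c with hc | hc
    · rw [show x = 1 from Model.ext h hc]
      exact one_mem _
    · rw [show x = zed B from Model.ext h hc]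
      exact Subgroup.mem_zpowers _

theorem conj_eq (x y : Model B) :
    x * y * x⁻¹ = ⟨y.v, y.c + x.v ⬝ᵥ (B + Bᵀ) *ᵥ y.v⟩ := by
  ext
  · simp only [mul_v, inv_v]
    rw [show x.v + y.v + x.v = y.v + (x.v + x.v) by abel, vec_add_self, add_zero]
  · simp only [mul_c, mul_v, inv_v, inv_c, qf, add_dotProduct, Matrix.add_mulVec, dotProduct_add]
    rw [Matrix.dotProduct_transpose_mulVec]
    rw [show x.c + y.c + x.v ⬝ᵥ B *ᵥ y.v + (x.c + x.v ⬝ᵥ B *ᵥ x.v) +
        (x.v ⬝ᵥ B *ᵥ x.v + y.v ⬝ᵥ B *ᵥ x.v) =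
      y.c + (x.v ⬝ᵥ B *ᵥ y.v + y.v ⬝ᵥ B *ᵥ x.v) + ((x.c + x.c) + (x.v ⬝ᵥ B *ᵥ x.v + x.v ⬝ᵥ B *ᵥ x.v)) by abel,
      CharTwo.add_self_eq_zero, CharTwo.add_self_eq_zero, add_zero, add_zero]

theorem comm_v (x y : Model B) : (⁅x, y⁆).v = 0 := by
  rw [commutatorElement_def, conj_eq, mul_v, inv_v, vec_add_self]

variable {B} (hB : (B + Bᵀ) * (B + Bᵀ) = 1)
include hB

theorem polar_injective : Function.Injective fun w : ι → F2 => (B + Bᵀ) *ᵥ w := fun a b hab => by
  have := congrArg ((B + Bᵀ) *ᵥ ·) hab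
  simpa [Matrix.mulVec_mulVec, hB] using this

theorem exists_polar (f : (ι → F2) →ₗ[F2] F2) : ∃ w, ∀ v, f v = w ⬝ᵥ (B + Bᵀ) *ᵥ v := by
  obtain ⟨w, hw⟩ := (Finite.injective_iff_surjective.1 (polar_injective hB)) fun i => f (Pi.single i 1)
  refine ⟨w, fun v => ?_⟩
  rw [Matrix.dotProduct_mulVec, ← Matrix.mulVec_transpose,
    show (B + Bᵀ)ᵀ = B + Bᵀ by rw [Matrix.transpose_add, Matrix.transpose_transpose, add_comm]]
  simp only [] at hw
  rw [hw, dotProduct]
  conv_lhs => rw [pi_eq_sum_univ' v, map_sum]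
  refine Finset.sum_congr rfl fun i _ => ?_
  rw [map_smul, smul_eq_mul, mul_comm]

theorem mem_center_iff (x : Model B) : x ∈ Subgroup.center (Model B) ↔ x.v = 0 := by
  rw [Subgroup.mem_center_iff]
  constructor
  · intro hx
    apply polar_injective hB
    funext i
    have h1 := congrArg Model.c (conj_eq B ⟨Pi.single i 1, 0⟩ x)
    rw [hx, mul_inv_cancel_right] at h1
    simp only [single_dotProduct, one_mul] at h1
    show ((B + Bᵀ) *ᵥ x.v) i = ((B + Bᵀ) *ᵥ (0 : ι → F2)) i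
    rw [Matrix.mulVec_zero, Pi.zero_apply]
    exact left_eq_add.1 h1
  · intro hx g
    rw [← mul_inv_eq_iff_eq_mul, conj_eq]
    ext <;> simp [hx]

theorem esData : ESData 2 (zed B) where
  z_ne h := by
    have := congrArg Model.c h
    simp [zed, one_c] at this
  z_pow := by rw [pow_two, sq_eq]; ext <;> simp [zed, qf, one_v, one_c]
  mem_center w := (mem_center_iff hB w).trans (mem_zpowers_zed B).symm
  comm_mem a b := (mem_zpowers_zed B).2 (comm_v B a b)
  pow_mem a := (mem_zpowers_zed B).2 (by rw [pow_two, sq_eq])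

theorem map_zed (φ : MulAut (Model B)) : φ (zed B) = zed B := by
  have hc : φ (zed B) ∈ Subgroup.center (Model B) := Subgroup.mem_center_iff.2 fun g => by
    have h1 := Subgroup.mem_center_iff.1 ((mem_center_iff hB (zed B)).2 rfl) (φ.symm g)
    have := congrArg φ h1
    simpa using this
  have h0 : (φ (zed B)).v = 0 := (mem_center_iff hB _).1 hc
  rcases f2_cases (φ (zed B)).c with hh | hh
  · exfalso
    have h1 : φ (zed B) = φ 1 := by rw [map_one]; exact Model.ext h0 hh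
    exact (esData hB).z_ne (φ.injective h1)
  · exact Model.ext h0 hh

theorem map_snd (φ : MulAut (Model B)) (c : F2) : φ ⟨0, c⟩ = ⟨0, c⟩ := by
  rcases f2_cases c with rfl | rfl
  · exact map_one φ
  · exact map_zed hB φ

theorem map_mk (φ : MulAut (Model B)) (v : ι → F2) (c : F2) :
    φ ⟨v, c⟩ = ⟨(φ ⟨v, 0⟩).v, c + (φ ⟨v, 0⟩).c⟩ := by
  have h1 : (⟨v, c⟩ : Model B) = ⟨0, c⟩ * ⟨v, 0⟩ := by ext <;> simp [mul_v, mul_c]
  rw [h1, map_mul, map_snd hB]
  ext <;> simp [mul_v, mul_c]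

theorem map_v (φ : MulAut (Model B)) (x : Model B) : (φ x).v = (φ ⟨x.v, 0⟩).v := by
  obtain ⟨a, b⟩ := x
  rw [map_mk hB φ a b]

/-- The induced linear map. -/
def lin (φ : MulAut (Model B)) : (ι → F2) →ₗ[F2] (ι → F2) :=
  AddMonoidHom.toZModLinearMap 2 (AddMonoidHom.mk' (fun v => (φ ⟨v, 0⟩).v) fun v w => by
    have h1 := congrArg Model.v (map_mul φ (⟨v, 0⟩ : Model B) ⟨w, 0⟩)
    rw [map_v hB φ, mul_v, mul_v] at h1
    exact h1)

theorem lin_apply (φ : MulAut (Model B)) (v : ι → F2) : lin hB φ v = (φ ⟨v, 0⟩).v := rfl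

/-- The induced matrices. -/
def toMat : MulAut (Model B) →* Matrix ι ι F2 where
  toFun φ := LinearMap.toMatrix' (lin hB φ)
  map_one' := by
    rw [← LinearMap.toMatrix'_id]
    congr 1
  map_mul' φ ψ := by
    rw [← LinearMap.toMatrix'_comp]
    congr 1
    refine LinearMap.ext fun v => ?_
    rw [LinearMap.comp_apply, lin_apply, lin_apply, lin_apply, MulAut.mul_apply, map_v hB φ]

theorem toMat_mulVec (φ : MulAut (Model B)) (v : ι → F2) : toMat hB φ *ᵥ v = (φ ⟨v, 0⟩).v := by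
  rw [← lin_apply hB, ← LinearMap.toMatrix'_mulVec]
  rfl

theorem qf_toMat (φ : MulAut (Model B)) (v : ι → F2) : qf B (toMat hB φ *ᵥ v) = qf B v := by
  rw [toMat_mulVec]
  have h1 := map_mul φ (⟨v, 0⟩ : Model B) ⟨v, 0⟩
  rw [sq_eq, sq_eq, map_snd hB] at h1
  exact (congrArg Model.c h1).symm

/-- The map to the isometry group. -/
def toIso : MulAut (Model B) →* Cfsg.isometryGroup F2 (qf B) :=
  ((toMat hB).toHomUnits).codRestrict _ fun φ u _ => qf_toMat hB φ u

theorem toIso_mulVec (φ : MulAut (Model B)) (v : ι → F2) :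
    ((toIso hB φ : GL ι F2) : Matrix ι ι F2) *ᵥ v = (φ ⟨v, 0⟩).v :=
  toMat_mulVec hB φ v

theorem toIso_surjective : Function.Surjective (toIso hB) := by
  classical
  rintro ⟨A, hA⟩
  set M : Matrix ι ι F2 := (A : Matrix ι ι F2) with hM
  have hq : ∀ v, qf B (M *ᵥ v) = qf B v := fun v => hA v v
  set D := Mᵀ * B * M - B with hD
  have hDb : ∀ v w, v ⬝ᵥ D *ᵥ w = (M *ᵥ v) ⬝ᵥ B *ᵥ (M *ᵥ w) - v ⬝ᵥ B *ᵥ w := by
    intro v w
    rw [hD, Matrix.sub_mulVec, dotProduct_sub, ← Matrix.mulVec_mulVec, ← Matrix.mulVec_mulVec,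
      Matrix.dotProduct_mulVec, Matrix.vecMul_transpose]
  have hD0 : ∀ v, v ⬝ᵥ D *ᵥ v = 0 := fun v => by
    rw [hDb]
    exact sub_eq_zero.2 (hq v)
  have hent : ∀ i j, Pi.single i (1 : F2) ⬝ᵥ D *ᵥ Pi.single j 1 = D i j := fun i j => by
    rw [Matrix.mulVec_single_one, single_dotProduct, one_mul]
    rfl
  have hdiag : ∀ i, D i i = 0 := fun i => (hent i i).symm.trans (hD0 _)
  have hsymm : ∀ i j, D j i = D i j := fun i j => by
    have h1 := hD0 (Pi.single i 1 + Pi.single j 1)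
    simp only [Matrix.mulVec_add, add_dotProduct, dotProduct_add, hent, hdiag, zero_add, add_zero] at h1
    exact (CharTwo.add_eq_zero.1 h1)
  let e := Fintype.equivFin ι
  let U : Matrix ι ι F2 := Matrix.of fun i j => if e i < e j then D i j else 0
  have hU : U + Uᵀ = D := by
    ext i j
    simp only [Matrix.add_apply, Matrix.transpose_apply, U, Matrix.of_apply]
    rcases lt_trichotomy (e i) (e j) with h | h | h
    · rw [if_pos h, if_neg h.asymm, add_zero]
    · rw [if_neg h.not_lt, if_neg h.symm.not_lt, add_zero, e.injective h, hdiag]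
    · rw [if_neg h.asymm, if_pos h, zero_add, hsymm]
  let r : (ι → F2) → F2 := fun v => v ⬝ᵥ U *ᵥ v
  have hr : ∀ v w, r (v + w) + v ⬝ᵥ B *ᵥ w = r v + r w + (M *ᵥ v) ⬝ᵥ B *ᵥ (M *ᵥ w) := by
    intro v w
    have h1 : w ⬝ᵥ U *ᵥ v = v ⬝ᵥ Uᵀ *ᵥ w := by rw [Matrix.dotProduct_transpose_mulVec]
    have h2 := hDb v w
    rw [← hU, Matrix.add_mulVec, dotProduct_add] at h2
    simp only [r, Matrix.mulVec_add, add_dotProduct, dotProduct_add, h1]
    linear_combination h2
  have hinv : ∀ v, ((A⁻¹ : GL ι F2) : Matrix ι ι F2) *ᵥ (M *ᵥ v) = v := fun v => by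
    rw [hM, Matrix.mulVec_mulVec, ← Units.val_mul, inv_mul_cancel, Units.val_one, Matrix.one_mulVec]
  have hinv' : ∀ v, M *ᵥ (((A⁻¹ : GL ι F2) : Matrix ι ι F2) *ᵥ v) = v := fun v => by
    rw [hM, Matrix.mulVec_mulVec, ← Units.val_mul, mul_inv_cancel, Units.val_one, Matrix.one_mulVec]
  let φ : MulAut (Model B) :=
    { toFun := fun x => ⟨M *ᵥ x.v, x.c + r x.v⟩
      invFun := fun x => ⟨((A⁻¹ : GL ι F2) : Matrix ι ι F2) *ᵥ x.v,
        x.c + r (((A⁻¹ : GL ι F2) : Matrix ι ι F2) *ᵥ x.v)⟩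
      left_inv := fun x => by
        refine Model.ext (hinv x.v) ?_
        simp only [hinv]
        rw [add_assoc, CharTwo.add_self_eq_zero, add_zero]
      right_inv := fun x => by
        refine Model.ext (hinv' x.v) ?_
        simp only []
        rw [add_assoc, CharTwo.add_self_eq_zero, add_zero]
      map_mul' := fun x y => by
        ext
        · simp [mul_v, Matrix.mulVec_add]
        · simp only [mul_c, mul_v]
          have := hr x.v y.v
          linear_combination this }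
  refine ⟨φ, Subtype.ext (Units.ext (Matrix.ext_iff_mulVec.2 fun v => ?_))⟩
  exact toIso_mulVec hB φ v

theorem ker_toIso : (toIso hB).ker = Cfsg.Inn (Model B) := by
  ext φ
  rw [MonoidHom.mem_ker]
  constructor
  · intro h
    have hv : ∀ v, (φ ⟨v, 0⟩).v = v := fun v => by
      rw [← toIso_mulVec hB, h]
      simp
    let f : (ι → F2) →ₗ[F2] F2 := AddMonoidHom.toZModLinearMap 2
      (AddMonoidHom.mk' (fun v => (φ ⟨v, 0⟩).c) fun v w => by
        have h1 := congrArg Model.c (map_mul φ (⟨v, 0⟩ : Model B) ⟨w, 0⟩)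
        rw [show (⟨v, 0⟩ : Model B) * ⟨w, 0⟩ = ⟨v + w, v ⬝ᵥ B *ᵥ w⟩ by ext <;> simp [mul_v, mul_c],
          map_mk hB, mul_c] at h1
        simp only [hv] at h1
        linear_combination h1)
    obtain ⟨w, hw⟩ := exists_polar hB f
    refine ⟨⟨w, 0⟩, MulEquiv.ext fun x => ?_⟩
    obtain ⟨v, c⟩ := x
    rw [MulAut.conj_apply, conj_eq, map_mk hB φ v c, hv]
    exact congrArg (Model.mk v) (congrArg (c + ·) (hw v).symm)
  · rintro ⟨g, rfl⟩
    refine Subtype.ext (Units.ext (Matrix.ext_iff_mulVec.2 fun v => ?_))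
    rw [toIso_mulVec, MulAut.conj_apply, conj_eq]
    simp

/-- Outer automorphisms of the model. -/
noncomputable def outEquiv : Cfsg.Out (Model B) ≃* Cfsg.isometryGroup F2 (qf B) :=
  (QuotientGroup.quotientMulEquivOfEq (ker_toIso hB).symm).trans
    (QuotientGroup.quotientKerEquivOfSurjective _ (toIso_surjective hB))

omit hB

/-- Outer automorphism groups along an isomorphism. -/
noncomputable def outCongr {E H : Type*} [Group E] [Group H] (e : E ≃* H) : Cfsg.Out E ≃* Cfsg.Out H :=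
  QuotientGroup.congr _ _ (MulAut.congr e) (by
    ext φ
    constructor
    · rintro ⟨_, ⟨g, rfl⟩, rfl⟩
      exact ⟨e g, MulEquiv.ext fun x => by simp [MulAut.congr]⟩
    · rintro ⟨g, rfl⟩
      exact ⟨MulAut.conj (e.symm g), ⟨_, rfl⟩, MulEquiv.ext fun x => by simp [MulAut.congr]⟩)

/-- Plus type. -/
def plusMat (n : ℕ) : Matrix (Fin n ⊕ Fin n) (Fin n ⊕ Fin n) F2 := Matrix.fromBlocks 0 1 0 0

/-- Minus type. -/
def minusMat (m : ℕ) : Matrix ((Fin m ⊕ Fin m) ⊕ Fin 2) ((Fin m ⊕ Fin m) ⊕ Fin 2) F2 :=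
  Matrix.fromBlocks (plusMat m) 0 0 !![1, 1; 0, 1]

theorem plusMat_sq (n : ℕ) : (plusMat n + (plusMat n)ᵀ) * (plusMat n + (plusMat n)ᵀ) = 1 := by
  simp [plusMat, Matrix.fromBlocks_transpose, Matrix.fromBlocks_add, Matrix.fromBlocks_multiply]

theorem minusMat_sq (m : ℕ) : (minusMat m + (minusMat m)ᵀ) * (minusMat m + (minusMat m)ᵀ) = 1 := by
  simp only [minusMat, Matrix.fromBlocks_transpose, Matrix.fromBlocks_add, Matrix.fromBlocks_multiply,
    Matrix.transpose_zero, add_zero, Matrix.mul_zero, Matrix.zero_mul, zero_add, plusMat_sq]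
  rw [show (!![(1 : F2), 1; 0, 1] + !![(1 : F2), 1; 0, 1]ᵀ) *
    (!![(1 : F2), 1; 0, 1] + !![(1 : F2), 1; 0, 1]ᵀ) = 1 by decide, Matrix.fromBlocks_one]

theorem qf_plus (n : ℕ) : qf (plusMat n) = Cfsg.quadFormPlus n F2 := by
  funext v
  simp [qf, plusMat, Cfsg.quadFormPlus, dotProduct, Matrix.fromBlocks_mulVec, Fintype.sum_sum_type]

theorem qf_minus (m : ℕ) : qf (minusMat m) = Cfsg.quadFormMinus m F2 1 1 := by
  funext v
  simp only [qf, minusMat, Cfsg.quadFormMinus, Matrix.fromBlocks_mulVec, dotProduct,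
    Fintype.sum_sum_type (α₁ := Fin m ⊕ Fin m), Sum.elim_inl, Sum.elim_inr, Matrix.zero_mulVec,
    add_zero, zero_add]
  have h1 := congrFun (qf_plus m) (v ∘ Sum.inl)
  simp only [qf, dotProduct, Cfsg.quadFormPlus, Function.comp_apply] at h1
  rw [h1]
  simp [Fin.sum_univ_two, Matrix.mulVec, dotProduct]
  generalize v (Sum.inr 0) = a
  generalize v (Sum.inr 1) = b
  decide +revert

/-- The singular vectors in the plus model give a large elementary abelian subgroup. -/
theorem plus_exists (n : ℕ) : ∃ A : Subgroup (Model (plusMat n)),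
    Cfsg.IsElementaryAbelian 2 A ∧ Nat.card A = 2 ^ (n + 1) := by
  let A : Subgroup (Model (plusMat n)) :=
    { carrier := {x | ∀ i, x.v (.inr i) = 0}
      one_mem' := fun _ => rfl
      mul_mem' := fun {a b} ha hb i => by simp [mul_v, ha i, hb i]
      inv_mem' := fun {a} ha i => ha i }
  have hβ : ∀ a ∈ A, ∀ b ∈ A, a.v ⬝ᵥ plusMat n *ᵥ b.v = 0 := fun a _ b hb => by
    simp [plusMat, dotProduct, Matrix.fromBlocks_mulVec, Fintype.sum_sum_type,
      show ∀ i, b.v (.inr i) = 0 from hb]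
  refine ⟨A, ⟨⟨⟨fun a b => Subtype.ext (Model.ext (add_comm _ _) ?_)⟩⟩, fun a ha => ?_⟩, ?_⟩
  · change (a.1 * b.1).c = (b.1 * a.1).c
    rw [mul_c, mul_c, hβ _ a.2 _ b.2, hβ _ b.2 _ a.2, add_comm a.1.c]
  · rw [pow_two, sq_eq, qf, hβ a ha a ha]
    rfl
  · rw [pow_succ, Nat.card_congr (β := (Fin n → F2) × F2) ⟨fun a => (fun i => a.1.v (.inl i), a.1.c),
      fun x => ⟨⟨Sum.elim x.1 0, x.2⟩, fun _ => rfl⟩, fun a => Subtype.ext (Model.ext (funext fun j => by
        rcases j with i | i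
        · rfl
        · exact (a.2 i).symm) rfl), fun x => rfl⟩, Nat.card_prod, Nat.card_fun, Nat.card_zmod, Nat.card_fin]

/-- The sign character. -/
def sgn (x : F2) : ℤ := if x = 0 then 1 else -1

theorem sgn_add : ∀ a b : F2, sgn (a + b) = sgn a * sgn b := by decide

theorem sgn_sum {κ : Type*} (s : Finset κ) (f : κ → F2) : sgn (∑ i ∈ s, f i) = ∏ i ∈ s, sgn (f i) := by
  classical
  induction s using Finset.induction_on with
  | empty => simp [sgn]
  | insert a s ha ih => rw [Finset.sum_insert ha, Finset.prod_insert ha, sgn_add, ih]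

theorem gauss_minus (m : ℕ) :
    ∑ v : (Fin m ⊕ Fin m) ⊕ Fin 2 → F2, sgn (Cfsg.quadFormMinus m F2 1 1 v) = -2 ^ (m + 1) := by
  let e : ((Fin m → F2 × F2) × (Fin 2 → F2)) ≃ ((Fin m ⊕ Fin m) ⊕ Fin 2 → F2) :=
    ((Equiv.arrowProdEquivProdArrow (Fin m) (fun _ => F2) (fun _ => F2)).trans
      (Equiv.sumArrowEquivProdArrow _ _ _).symm |>.prodCongr (Equiv.refl _)).trans
      (Equiv.sumArrowEquivProdArrow _ _ _).symm
  rw [← e.sum_comp, Fintype.sum_prod_type]
  have h : ∀ x y, sgn (Cfsg.quadFormMinus m F2 1 1 (e (x, y))) =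
      (∏ i, sgn ((x i).1 * (x i).2)) * sgn (y 0 ^ 2 + 1 * y 0 * y 1 + 1 * y 1 ^ 2) := fun x y => by
    rw [← sgn_sum, ← sgn_add]
    rfl
  simp only [h, ← Finset.mul_sum, ← Finset.sum_mul]
  rw [show (∑ y : Fin 2 → F2, sgn (y 0 ^ 2 + 1 * y 0 * y 1 + 1 * y 1 ^ 2)) = -2 by decide,
    ← Fintype.prod_sum fun (_ : Fin m) (j : F2 × F2) => sgn (j.1 * j.2)]
  rw [show (∑ j : F2 × F2, sgn (j.1 * j.2)) = 2 by decide, Finset.prod_const, Finset.card_univ, Fintype.card_fin,
    pow_succ]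
  ring

theorem minus_not_exists (m : ℕ) : ¬ ∃ A : Subgroup (Model (minusMat m)),
    Cfsg.IsElementaryAbelian 2 A ∧ Nat.card A = 2 ^ (m + 2) := by
  classical
  rintro ⟨A, ⟨hc, he⟩, hcard⟩
  have hE : Nat.card (Model (minusMat m)) = 2 ^ (2 * (m + 1) + 1) := by
    rw [card_model]; simp; ring_nf
  have h1 := card_sq_eq_one (esData (minusMat_sq m)) hE (A := A)
    (fun a ha b hb => congrArg Subtype.val (hc.is_comm.comm ⟨a, ha⟩ ⟨b, hb⟩))
    (fun a ha => by rw [← pow_two]; exact he a ha) hcard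
  let Q := Cfsg.quadFormMinus m F2 1 1
  have h2 : Nat.card {x : Model (minusMat m) // x * x = 1} = 2 * Nat.card {v // Q v = 0} := by
    rw [mul_comm, Nat.card_congr (β := {v // Q v = 0} × F2) ⟨fun x => (⟨x.1.v, by
        have := congrArg Model.c x.2
        rwa [sq_eq, one_c, qf_minus] at this⟩, x.1.c),
      fun x => ⟨⟨x.1.1, x.2⟩, by
        rw [sq_eq]; exact Model.ext rfl (by rw [qf_minus]; exact x.1.2)⟩,
      fun x => rfl, fun x => rfl⟩, Nat.card_prod, Nat.card_zmod]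
  have h3 := gauss_minus m
  have h4 : ∑ v : (Fin m ⊕ Fin m) ⊕ Fin 2 → F2, sgn (Q v) =
      2 * (Nat.card {v // Q v = 0} : ℤ) - (2 ^ (2 * (m + 1)) : ℕ) := by
    rw [Nat.card_eq_fintype_card, Fintype.card_subtype]
    simp only [sgn, Finset.sum_ite, Finset.sum_const, nsmul_eq_mul, mul_one, mul_neg]
    have h5 := Finset.card_filter_add_card_filter_not (s := (Finset.univ : Finset ((Fin m ⊕ Fin m) ⊕ Fin 2 → F2)))
      (fun v => Q v = 0)
    rw [Finset.card_univ, Fintype.card_fun, ZMod.card, show Fintype.card ((Fin m ⊕ Fin m) ⊕ Fin 2) = 2 * (m + 1) by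
      simp; ring] at h5
    rw [← h5]
    push_cast
    ring
  rw [h4] at h3
  rw [h2] at h1
  have h6 : (0 : ℤ) < 2 ^ (m + 1) := by positivity
  have h7 : (2 * (Nat.card {v // Q v = 0}) : ℤ) = 2 ^ (2 * (m + 1)) + 2 ^ (m + 1) := by exact_mod_cast h1
  push_cast at h3
  linarith

end Cfsg.Agent.Lib.Extraspecial.OutModel
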