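import Cfsg.Prelude.Def_Transfer
import Cfsg.Agent.Lib.PGroups.Frattini
import Mathlib.GroupTheory.Subgroup.Center

/-!
Extraspecial groups, in the weakened form `ESData p z` (which also allows the group of order `p`):
centre `⟨z⟩` of order `p` containing all commutators and all `p`-th powers.
Splitting off a pair `x, y` with `⁅x, y⁆ = z`, gluing of isomorphisms, orders.
-/

set_option autoImplicit false

open scoped commutatorElement

namespace Cfsg.Agent.Lib.Extraspecial

/-- `z` generates the centre, which has order `p` and contains all commutators and `p`-th powers. -/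
structure ESData {E : Type*} [Group E] (p : ℕ) (z : E) : Prop where
  z_ne : z ≠ 1
  z_pow : z ^ p = 1
  mem_center : ∀ w, w ∈ Subgroup.center E ↔ w ∈ Subgroup.zpowers z
  comm_mem : ∀ a b : E, ⁅a, b⁆ ∈ Subgroup.zpowers z
  pow_mem : ∀ a : E, a ^ p ∈ Subgroup.zpowers z

variable {E : Type*} [Group E] {p : ℕ} {z : E}

theorem exists_esData [Finite E] [hp : Fact p.Prime] (h : Cfsg.IsExtraspecial p E) :
    ∃ z : E, ESData p z := by
  obtain ⟨⟨hP, hfr, hcm⟩, hcard⟩ := h
  haveI := isCyclic_of_prime_card hcard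
  obtain ⟨⟨z, hz⟩, hzgen⟩ := IsCyclic.exists_generator (α := Subgroup.center E)
  have hord : orderOf z = p := by
    rw [← Subgroup.orderOf_mk z hz, orderOf_eq_card_of_forall_mem_zpowers hzgen, hcard]
  have hle : ∀ w, w ∈ Subgroup.center E ↔ w ∈ Subgroup.zpowers z := by
    refine fun w => ⟨fun hw => ?_, fun hw => Subgroup.zpowers_le.2 hz hw⟩
    obtain ⟨k, hk⟩ := hzgen ⟨w, hw⟩
    exact ⟨k, congrArg Subtype.val hk⟩
  refine ⟨z, fun h1 => hp.out.one_lt.ne ?_, hord ▸ pow_orderOf_eq_one z, hle, fun a b => ?_, fun a => ?_⟩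
  · rw [← hord, h1, orderOf_one]
  · exact (hle _).1 (hcm ▸ Subgroup.commutator_mem_commutator (Subgroup.mem_top a) (Subgroup.mem_top b))
  · exact (hle _).1 (hfr ▸ PGroups.pow_mem_frattini hP a)

variable (h : ESData p z)
include h

theorem commute_z (g : E) : g * z = z * g :=
  Subgroup.mem_center_iff.1 ((h.mem_center z).2 (Subgroup.mem_zpowers z)) g

theorem commute_zpow (g : E) (k : ℤ) : g * z ^ k = z ^ k * g :=
  Subgroup.mem_center_iff.1 ((h.mem_center _).2 (Subgroup.zpow_mem_zpowers z k)) g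

theorem comm_mul_left (a b c : E) : ⁅a * b, c⁆ = ⁅a, c⁆ * ⁅b, c⁆ := by
  have hc := Subgroup.mem_center_iff.1 ((h.mem_center _).2 (h.comm_mem b c)) a
  calc ⁅a * b, c⁆ = a * ⁅b, c⁆ * (c * a⁻¹ * c⁻¹) := by
        rw [commutatorElement_def, commutatorElement_def]; group
    _ = ⁅b, c⁆ * ⁅a, c⁆ := by rw [hc, commutatorElement_def, commutatorElement_def]; group
    _ = ⁅a, c⁆ * ⁅b, c⁆ :=
        (Subgroup.mem_center_iff.1 ((h.mem_center _).2 (h.comm_mem b c)) _).symm

theorem comm_zpow_left (a c : E) (i : ℤ) : ⁅a ^ i, c⁆ = ⁅a, c⁆ ^ i :=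
  map_zpow ({ toFun := fun a => ⁅a, c⁆
              map_one' := commutatorElement_one_left c
              map_mul' := fun a b => comm_mul_left h a b c } : E →* E) a i

theorem comm_zpow_right (a c : E) (i : ℤ) : ⁅a, c ^ i⁆ = ⁅a, c⁆ ^ i := by
  rw [← commutatorElement_inv (c ^ i) a, comm_zpow_left h, ← inv_zpow, commutatorElement_inv]

variable {x y : E} (hxy : ⁅x, y⁆ = z)
include hxy

theorem swap_zpow (i j : ℤ) : y ^ j * x ^ i = x ^ i * y ^ j * z ^ (-(j * i)) := by
  have h1 : ⁅x ^ i, y ^ j⁆ = z ^ (j * i) := by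
    rw [comm_zpow_left h, comm_zpow_right h, hxy, ← zpow_mul]
  have h2 : x ^ i * y ^ j = z ^ (j * i) * (y ^ j * x ^ i) := by
    rw [← h1, commutatorElement_def]; group
  calc y ^ j * x ^ i = z ^ (-(j * i)) * (z ^ (j * i) * (y ^ j * x ^ i)) := by group
    _ = x ^ i * y ^ j * z ^ (-(j * i)) := by rw [← h2]; exact (commute_zpow h _ _).symm

omit hxy in
/-- `C(x, y)`. -/
theorem mem_pairCentralizer {c : E} :
    c ∈ Subgroup.centralizer ({x, y} : Set E) ↔ x * c = c * x ∧ y * c = c * y := by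
  simp [Subgroup.mem_centralizer_iff]

omit hxy in
theorem z_mem : z ∈ Subgroup.centralizer ({x, y} : Set E) :=
  (mem_pairCentralizer h).2 ⟨commute_z h x, commute_z h y⟩

/-- Every element is `x^i y^j c` with `c` centralizing `x` and `y`. -/
theorem exists_decomp (g : E) :
    ∃ i j : ℤ, ∃ c ∈ Subgroup.centralizer ({x, y} : Set E), g = x ^ i * y ^ j * c := by
  obtain ⟨s, hs⟩ := h.comm_mem g y
  obtain ⟨t, ht⟩ := h.comm_mem g x
  replace hs : z ^ s = ⁅g, y⁆ := hs
  replace ht : z ^ t = ⁅g, x⁆ := ht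
  refine ⟨s, -t, (x ^ s * y ^ (-t))⁻¹ * g, (mem_pairCentralizer h).2 ⟨?_, ?_⟩, by group⟩
  · refine (commutatorElement_eq_one_iff_mul_comm.1 ?_).symm
    rw [mul_inv_rev, ← zpow_neg, ← zpow_neg, neg_neg, comm_mul_left h, comm_mul_left h,
      comm_zpow_left h, comm_zpow_left h, ← ht, commutatorElement_self, one_zpow, mul_one,
      show ⁅y, x⁆ = z⁻¹ by rw [← hxy, commutatorElement_inv], inv_zpow, inv_mul_cancel]
  · refine (commutatorElement_eq_one_iff_mul_comm.1 ?_).symm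
    rw [mul_inv_rev, ← zpow_neg, ← zpow_neg, neg_neg, comm_mul_left h, comm_mul_left h,
      comm_zpow_left h, comm_zpow_left h, ← hs, commutatorElement_self, one_zpow, one_mul, hxy,
      ← zpow_add, neg_add_cancel, zpow_zero]

theorem esData_centralizer :
    ESData p (⟨z, z_mem h⟩ : Subgroup.centralizer ({x, y} : Set E)) := by
  have hz : ∀ w : Subgroup.centralizer ({x, y} : Set E),
      (w : E) ∈ Subgroup.zpowers z → w ∈ Subgroup.zpowers ⟨z, z_mem h⟩ := by
    rintro w ⟨k, hk⟩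
    exact ⟨k, Subtype.ext (by simpa using hk)⟩
  refine ⟨fun h1 => h.z_ne (congrArg Subtype.val h1), Subtype.ext h.z_pow, fun w => ⟨?_, ?_⟩,
    fun a b => hz _ (show ⁅(a : E), (b : E)⁆ ∈ Subgroup.zpowers z from h.comm_mem (a : E) b),
    fun a => hz _ (by simpa using h.pow_mem (a : E))⟩
  · intro hw
    refine hz w ((h.mem_center _).1 (Subgroup.mem_center_iff.2 fun g => ?_))
    obtain ⟨i, j, c, hc, rfl⟩ := exists_decomp h hxy g
    obtain ⟨h1, h2⟩ := (mem_pairCentralizer h).1 w.2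
    have h3 : c * (w : E) = w * c := congrArg Subtype.val (Subgroup.mem_center_iff.1 hw ⟨c, hc⟩)
    have h4 : Commute (x ^ i * y ^ j * c) (w : E) :=
      ((Commute.zpow_left h1 i).mul_left (Commute.zpow_left h2 j)).mul_left h3
    exact h4.eq
  · rintro ⟨k, rfl⟩
    refine Subgroup.mem_center_iff.2 fun g => Subtype.ext ?_
    simpa using commute_zpow h (g : E) k

theorem mul_normalForm {i j i' j' : ℤ} {c c' : E}
    (hc : c ∈ Subgroup.centralizer ({x, y} : Set E)) :
    (x ^ i * y ^ j * c) * (x ^ i' * y ^ j' * c') =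
      x ^ (i + i') * y ^ (j + j') * (z ^ (-(j * i')) * c * c') := by
  obtain ⟨h1, h2⟩ := (mem_pairCentralizer h).1 hc
  have h3 : Commute c (x ^ i' * y ^ j') :=
    (Commute.zpow_right (Eq.symm h1) i').mul_right (Commute.zpow_right (Eq.symm h2) j')
  calc (x ^ i * y ^ j * c) * (x ^ i' * y ^ j' * c')
      = x ^ i * y ^ j * (c * (x ^ i' * y ^ j')) * c' := by group
    _ = x ^ i * (y ^ j * x ^ i') * y ^ j' * c * c' := by rw [h3.eq]; group
    _ = x ^ i * x ^ i' * y ^ j * (z ^ (-(j * i')) * y ^ j') * c * c' := by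
        rw [swap_zpow h hxy]; group
    _ = _ := by rw [← commute_zpow h]; group

/-- `x^i y^j c = 1` iff `p ∣ i`, `p ∣ j` and `c` is the expected power of `z`. -/
theorem normalForm_eq_one_iff [hp : Fact p.Prime] {a b : ℤ} (hx : x ^ p = z ^ a) (hy : y ^ p = z ^ b)
    {i j : ℤ} {c : E} (hc : c ∈ Subgroup.centralizer ({x, y} : Set E)) :
    x ^ i * y ^ j * c = 1 ↔
      (p : ℤ) ∣ i ∧ (p : ℤ) ∣ j ∧ c = z ^ (-(a * (i / p) + b * (j / p))) := by
  have hzord : orderOf z = p := orderOf_eq_prime h.z_pow h.z_ne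
  have key : (p : ℤ) ∣ i → (p : ℤ) ∣ j → x ^ i * y ^ j = z ^ (a * (i / p) + b * (j / p)) := by
    rintro ⟨i', rfl⟩ ⟨j', rfl⟩
    rw [zpow_mul, zpow_mul, zpow_natCast, zpow_natCast, hx, hy, ← zpow_mul, ← zpow_mul, ← zpow_add,
      Int.mul_ediv_cancel_left _ (by exact_mod_cast hp.out.ne_zero),
      Int.mul_ediv_cancel_left _ (by exact_mod_cast hp.out.ne_zero)]
  constructor
  · intro h1
    obtain ⟨hc1, hc2⟩ := (mem_pairCentralizer h).1 hc
    have e : c = (x ^ i * y ^ j)⁻¹ := eq_inv_of_mul_eq_one_right h1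
    have hi : (p : ℤ) ∣ i := by
      have h2 : ⁅x ^ i * y ^ j, y⁆ = 1 := by
        rw [commutatorElement_eq_one_iff_mul_comm]
        have : Commute y c⁻¹ := Commute.inv_right hc2
        rw [e, inv_inv] at this
        exact this.eq.symm
      rw [comm_mul_left h, comm_zpow_left h, comm_zpow_left h, commutatorElement_self, one_zpow,
        mul_one, hxy, ← orderOf_dvd_iff_zpow_eq_one, hzord] at h2
      exact h2
    have hj : (p : ℤ) ∣ j := by
      have h2 : ⁅x ^ i * y ^ j, x⁆ = 1 := by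
        rw [commutatorElement_eq_one_iff_mul_comm]
        have : Commute x c⁻¹ := Commute.inv_right hc1
        rw [e, inv_inv] at this
        exact this.eq.symm
      rw [comm_mul_left h, comm_zpow_left h, comm_zpow_left h, commutatorElement_self, one_zpow,
        one_mul, show ⁅y, x⁆ = z⁻¹ by rw [← hxy, commutatorElement_inv], inv_zpow, inv_eq_one,
        ← orderOf_dvd_iff_zpow_eq_one, hzord] at h2
      exact h2
    exact ⟨hi, hj, by rw [e, key hi hj, zpow_neg]⟩
  · rintro ⟨hi, hj, rfl⟩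
    rw [key hi hj, zpow_neg, mul_inv_cancel]

theorem card_eq [Finite E] [hp : Fact p.Prime] :
    Nat.card E = p ^ 2 * Nat.card (Subgroup.centralizer ({x, y} : Set E)) := by
  obtain ⟨a, ha⟩ := Subgroup.mem_zpowers_iff.1 (h.pow_mem x)
  obtain ⟨b, hb⟩ := Subgroup.mem_zpowers_iff.1 (h.pow_mem y)
  rw [show p ^ 2 * Nat.card (Subgroup.centralizer ({x, y} : Set E))
    = Nat.card ((Fin p × Fin p) × Subgroup.centralizer ({x, y} : Set E)) by
      rw [Nat.card_prod, Nat.card_prod, Nat.card_fin, sq]]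
  symm
  refine Nat.card_eq_of_bijective
    (fun v => x ^ (v.1.1 : ℤ) * y ^ (v.1.2 : ℤ) * (v.2 : E)) ⟨?_, ?_⟩
  · rintro ⟨⟨i, j⟩, c⟩ ⟨⟨i', j'⟩, c'⟩ heq
    have hfac : ∀ (k l : ℤ) (u : E), u ∈ Subgroup.centralizer ({x, y} : Set E) →
        x ^ k * y ^ l * u = x ^ (i : ℤ) * y ^ (j : ℤ) * (c : E) →
        (p : ℤ) ∣ k - i ∧ (p : ℤ) ∣ l - j := by
      intro k l u hu he
      have hinv : (x ^ (i : ℤ) * y ^ (j : ℤ) * (c : E)) *
          (x ^ (k - i) * y ^ (l - j) * (z ^ ((j : ℤ) * (k - i)) * (c : E)⁻¹ * u)) =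
            x ^ (i : ℤ) * y ^ (j : ℤ) * (c : E) := by
        rw [mul_normalForm h hxy c.2, ← he]
        rw [add_sub_cancel, add_sub_cancel]
        congr 1
        rw [zpow_neg]
        have := commute_zpow h (c : E) ((j : ℤ) * (k - i))
        calc (z ^ ((j : ℤ) * (k - i)))⁻¹ * (c : E) * (z ^ ((j : ℤ) * (k - i)) * (c : E)⁻¹ * u)
            = (z ^ ((j : ℤ) * (k - i)))⁻¹ * ((c : E) * z ^ ((j : ℤ) * (k - i))) * (c : E)⁻¹ * u := by
              group
          _ = u := by rw [this]; group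
      have h1 := (normalForm_eq_one_iff h hxy ha.symm hb.symm
        (mul_mem (mul_mem (zpow_mem (z_mem h) _) (inv_mem c.2)) hu)).1 (mul_eq_left.1 hinv)
      exact ⟨h1.1, h1.2.1⟩
    obtain ⟨h1, h2⟩ := hfac _ _ _ c'.2 heq.symm
    have hsmall : ∀ u v : Fin p, (p : ℤ) ∣ (u : ℤ) - v → u = v := by
      intro u v hd
      have := u.2; have := v.2
      have h0 : (u : ℤ) - v = 0 := Int.eq_zero_of_abs_lt_dvd hd (by rw [abs_lt]; omega)
      exact Fin.ext (by omega)
    have e1 := hsmall _ _ h1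
    have e2 := hsmall _ _ h2
    subst e1 e2
    exact Prod.ext rfl (Subtype.ext (mul_left_cancel heq))
  · intro g
    obtain ⟨i, j, c, hc, rfl⟩ := exists_decomp h hxy g
    have hp0 : (0 : ℤ) < p := by exact_mod_cast hp.out.pos
    have hi := Int.emod_nonneg i hp0.ne'
    have hj := Int.emod_nonneg j hp0.ne'
    refine ⟨((⟨(i % p).toNat, by have := Int.emod_lt_of_pos i hp0; omega⟩,
      ⟨(j % p).toNat, by have := Int.emod_lt_of_pos j hp0; omega⟩),
      ⟨z ^ (a * (i / p) + b * (j / p)) * c, mul_mem (zpow_mem (z_mem h) _) hc⟩), ?_⟩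
    show x ^ (((i % p).toNat : ℕ) : ℤ) * y ^ (((j % p).toNat : ℕ) : ℤ) *
      (z ^ (a * (i / p) + b * (j / p)) * c) = x ^ i * y ^ j * c
    rw [Int.toNat_of_nonneg hi, Int.toNat_of_nonneg hj]
    have hxi : x ^ i = z ^ (a * (i / p)) * x ^ (i % p) := by
      rw [zpow_mul, ha.trans (zpow_natCast x p).symm, ← zpow_mul, ← zpow_add, Int.mul_ediv_add_emod]
    have hyj : y ^ j = z ^ (b * (j / p)) * y ^ (j % p) := by
      rw [zpow_mul, hb.trans (zpow_natCast y p).symm, ← zpow_mul, ← zpow_add, Int.mul_ediv_add_emod]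
    rw [hxi, hyj, zpow_add, ← commute_zpow h (x ^ (i % p)),
      ← mul_assoc (x ^ (i % p) * z ^ (a * (i / p))) (z ^ (b * (j / p))), ]
    have c1 := commute_zpow h (y ^ (j % p)) (a * (i / p))
    have c2 := commute_zpow h (y ^ (j % p)) (b * (j / p))
    simp only [mul_assoc]
    rw [← mul_assoc (y ^ (j % p)), c1, mul_assoc, ← mul_assoc (y ^ (j % p)), c2, mul_assoc]

omit hxy

/-- Gluing: an isomorphism of the complements extends. -/
theorem exists_glue [hp : Fact p.Prime] (hxy : ⁅x, y⁆ = z) {E' : Type*} [Group E'] {z' x' y' : E'}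
    (h' : ESData p z') (hxy' : ⁅x', y'⁆ = z') {a b : ℤ} (hx : x ^ p = z ^ a) (hy : y ^ p = z ^ b)
    (hx' : x' ^ p = z' ^ a) (hy' : y' ^ p = z' ^ b)
    (ψ : Subgroup.centralizer ({x, y} : Set E) ≃* Subgroup.centralizer ({x', y'} : Set E'))
    (hψ : (ψ ⟨z, z_mem h⟩ : E') = z') :
    ∃ φ : E ≃* E', φ z = z' := by
  have hψk : ∀ k : ℤ, ψ (⟨z, z_mem h⟩ ^ k) = (⟨z', z_mem h'⟩ : Subgroup.centralizer ({x', y'} : Set E')) ^ k := by
    intro k
    rw [map_zpow]
    congr 1
    exact Subtype.ext hψ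
  let F : ℤ × ℤ × Subgroup.centralizer ({x, y} : Set E) → E := fun v => x ^ v.1 * y ^ v.2.1 * (v.2.2 : E)
  let F' : ℤ × ℤ × Subgroup.centralizer ({x, y} : Set E) → E' := fun v => x' ^ v.1 * y' ^ v.2.1 * (ψ v.2.2 : E')
  let op : ℤ × ℤ × Subgroup.centralizer ({x, y} : Set E) → ℤ × ℤ × Subgroup.centralizer ({x, y} : Set E) →
      ℤ × ℤ × Subgroup.centralizer ({x, y} : Set E) := fun v w =>
    (v.1 + w.1, v.2.1 + w.2.1, ⟨z, z_mem h⟩ ^ (-(v.2.1 * w.1)) * v.2.2 * w.2.2)
  have hF : ∀ v w, F (op v w) = F v * F w := fun v w => (mul_normalForm h hxy v.2.2.2).symm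
  have hF' : ∀ v w, F' (op v w) = F' v * F' w := by
    intro v w
    show _ * _ * ((ψ (⟨z, z_mem h⟩ ^ (-(v.2.1 * w.1)) * v.2.2 * w.2.2)) : E') = _
    rw [map_mul, map_mul, hψk]
    exact (mul_normalForm h' hxy' (ψ v.2.2).2).symm
  have hone : ∀ v, F v = 1 ↔ F' v = 1 := by
    intro v
    rw [normalForm_eq_one_iff h hxy hx hy v.2.2.2, normalForm_eq_one_iff h' hxy' hx' hy' (ψ v.2.2).2]
    refine and_congr_right fun _ => and_congr_right fun _ => ?_
    constructor
    · intro hc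
      rw [show v.2.2 = ⟨z, z_mem h⟩ ^ (-(a * (v.1 / p) + b * (v.2.1 / p))) from Subtype.ext hc, hψk]
      rfl
    · intro hc
      have h1 : ψ v.2.2 = ψ (⟨z, z_mem h⟩ ^ (-(a * (v.1 / p) + b * (v.2.1 / p)))) := by
        rw [hψk]; exact Subtype.ext hc
      rw [ψ.injective h1]; rfl
  have hsurj : Function.Surjective F := fun g => by
    obtain ⟨i, j, c, hc, rfl⟩ := exists_decomp h hxy g
    exact ⟨(i, j, ⟨c, hc⟩), rfl⟩
  have hsurj' : Function.Surjective F' := fun g => by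
    obtain ⟨i, j, c, hc, rfl⟩ := exists_decomp h' hxy' g
    exact ⟨(i, j, ψ.symm ⟨c, hc⟩), by simp [F']⟩
  have hwd : ∀ v w, F v = F w → F' v = F' w := by
    intro v w hvw
    obtain ⟨u, hu⟩ := hsurj (F v)⁻¹
    have h1 : F' (op u v) = 1 := (hone _).1 (by rw [hF, hu, inv_mul_cancel])
    have h2 : F' (op u w) = 1 := (hone _).1 (by rw [hF, hu, hvw, inv_mul_cancel])
    rw [hF'] at h1 h2
    exact mul_left_cancel (h1.trans h2.symm)
  choose s hs using hsurj
  let φ : E →* E' :=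
    { toFun := fun g => F' (s g)
      map_one' := (hone _).1 (hs 1)
      map_mul' := fun g g' => by rw [← hF']; exact hwd _ _ (by rw [hs, hF, hs, hs]) }
  have hbij : Function.Bijective φ := by
    constructor
    · rw [← MonoidHom.ker_eq_bot_iff, eq_bot_iff]
      intro g hg
      rw [Subgroup.mem_bot, ← hs g]
      exact (hone _).2 hg
    · intro g'
      obtain ⟨v, rfl⟩ := hsurj' g'
      exact ⟨F v, hwd _ _ (hs _)⟩
  refine ⟨MulEquiv.ofBijective φ hbij, ?_⟩
  show F' (s z) = z'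
  rw [hwd (s z) (0, 0, ⟨z, z_mem h⟩) (by rw [hs]; simp [F])]
  simpa [F'] using hψ

omit h

/-- A commuting group with this data has order `p`; with a generator it is `⟨z⟩`. -/
theorem eq_zpowers_of_center_eq_top (h : ESData p z) (htop : ∀ a b : E, a * b = b * a) (g : E) :
    g ∈ Subgroup.zpowers z :=
  (h.mem_center g).1 (Subgroup.mem_center_iff.2 fun a => htop a g)

theorem exists_pair (h : ESData p z) [hp : Fact p.Prime] {a : E} (ha : a ∉ Subgroup.zpowers z) :
    ∃ b : E, ⁅a, b⁆ = z := by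
  obtain ⟨b, hb⟩ : ∃ b : E, ⁅a, b⁆ ≠ 1 := by
    by_contra hcon
    push Not at hcon
    exact ha ((h.mem_center a).1 (Subgroup.mem_center_iff.2 fun g =>
      (commutatorElement_eq_one_iff_mul_comm.1 (hcon g)).symm))
  obtain ⟨k, hk⟩ := h.comm_mem a b
  replace hk : z ^ k = ⁅a, b⁆ := hk
  have hzord : orderOf z = p := orderOf_eq_prime h.z_pow h.z_ne
  have hk' : ¬ (p : ℤ) ∣ k := fun hd => hb (by
    rw [← hk, ← orderOf_dvd_iff_zpow_eq_one, hzord]; exact hd)
  obtain ⟨u, v, huv⟩ := ((Nat.prime_iff_prime_int.1 hp.out).coprime_iff_not_dvd.2 hk').symm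
  refine ⟨b ^ u, ?_⟩
  rw [comm_zpow_right h, ← hk, ← zpow_mul, show k * u = 1 - v * p by linarith, zpow_sub, zpow_one,
    mul_comm v, zpow_mul, zpow_natCast, h.z_pow, one_zpow, inv_one, mul_one]

theorem card_centralizer_lt [Finite E] [hp : Fact p.Prime] (h : ESData p z) {x y : E}
    (hxy : ⁅x, y⁆ = z) : Nat.card (Subgroup.centralizer ({x, y} : Set E)) < Nat.card E := by
  rw [card_eq h hxy]
  exact lt_mul_left Nat.card_pos (Nat.one_lt_pow two_ne_zero hp.out.one_lt)

/-- Order of a group with this data. -/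
theorem exists_card_eq [Finite E] [hp : Fact p.Prime] (h : ESData p z) :
    ∃ n : ℕ, Nat.card E = p ^ (2 * n + 1) := by
  suffices key : ∀ (m : ℕ) (E : Type _) [Group E] [Finite E] (z : E),
      ESData p z → Nat.card E = m → ∃ n : ℕ, m = p ^ (2 * n + 1) from key _ E z h rfl
  intro m
  induction m using Nat.strong_induction_on with
  | _ m ih =>
    intro E _ _ z h hm
    by_cases htop : ∀ g : E, g ∈ Subgroup.zpowers z
    · exact ⟨0, by rw [← hm, ← orderOf_eq_card_of_forall_mem_zpowers htop,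
        orderOf_eq_prime h.z_pow h.z_ne, mul_zero, zero_add, pow_one]⟩
    push Not at htop
    obtain ⟨x, hx⟩ := htop
    obtain ⟨y, hxy⟩ := exists_pair h hx
    obtain ⟨n, hn⟩ := ih _ (hm ▸ card_centralizer_lt h hxy) _ _ (esData_centralizer h hxy) rfl
    exact ⟨n + 1, by rw [← hm, card_eq h hxy, hn, ← pow_add]; ring_nf⟩

/-- A `z ↦ z'` isomorphism between two groups of order `p`. -/
theorem exists_equiv_of_card_eq [Finite E] [hp : Fact p.Prime] (h : ESData p z) {E' : Type*}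
    [Group E'] [Finite E'] {z' : E'} (h' : ESData p z') (hE : ∀ g : E, g ∈ Subgroup.zpowers z)
    (hcard : Nat.card E = Nat.card E') : ∃ φ : E ≃* E', φ z = z' := by
  have ho := orderOf_eq_card_of_forall_mem_zpowers hE
  have ho' : orderOf z' = orderOf z := by
    rw [orderOf_eq_prime h'.z_pow h'.z_ne, orderOf_eq_prime h.z_pow h.z_ne]
  have hb : Function.Bijective (monoidHomOfForallMemZpowers hE ho'.dvd) := by
    refine (Nat.bijective_iff_surjective_and_card _).2 ⟨?_, hcard⟩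
    intro g
    have hg : g ∈ Subgroup.zpowers z' := by
      have : Subgroup.zpowers z' = ⊤ := Subgroup.eq_top_of_card_eq _ (by
        rw [Nat.card_zpowers, ho', ho, hcard])
      rw [this]; trivial
    obtain ⟨k, rfl⟩ := hg
    exact ⟨z ^ k, by simp⟩
  exact ⟨MulEquiv.ofBijective _ hb, by simp⟩

end Cfsg.Agent.Lib.Extraspecial
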