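import Cfsg.Agent.Lib.Extraspecial.Basic

/-!
Classification of extraspecial groups: unique for exponent `p`, two types for `p = 2`.
-/

set_option autoImplicit false

universe u v w

open scoped commutatorElement

namespace Cfsg.Agent.Lib.Extraspecial

/-- Extraspecial groups of exponent dividing `p` are determined by their order. -/
theorem exists_equiv_of_pow_eq_one {p : ℕ} [hp : Fact p.Prime] {E : Type u} [Group E] [Finite E]
    {z : E} (h : ESData p z) (he : ∀ g : E, g ^ p = 1) {E' : Type v} [Group E'] [Finite E']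
    {z' : E'} (h' : ESData p z') (he' : ∀ g : E', g ^ p = 1) (hcard : Nat.card E = Nat.card E') :
    ∃ φ : E ≃* E', φ z = z' := by
  suffices key : ∀ (m : ℕ) (E : Type u) [Group E] [Finite E] (z : E), ESData p z →
      (∀ g : E, g ^ p = 1) → ∀ (E' : Type v) [Group E'] [Finite E'] (z' : E'), ESData p z' →
      (∀ g : E', g ^ p = 1) → Nat.card E = m → Nat.card E' = m → ∃ φ : E ≃* E', φ z = z' from
    key _ E z h he E' z' h' he' hcard rfl
  intro m
  induction m using Nat.strong_induction_on with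
  | _ m ih =>
    intro E _ _ z h he E' _ _ z' h' he' hm hm'
    by_cases htop : ∀ g : E, g ∈ Subgroup.zpowers z
    · exact exists_equiv_of_card_eq h h' htop (hm.trans hm'.symm)
    by_cases htop' : ∀ g : E', g ∈ Subgroup.zpowers z'
    · obtain ⟨φ, hφ⟩ := exists_equiv_of_card_eq h' h htop' (hm'.trans hm.symm)
      exact ⟨φ.symm, by rw [← hφ, MulEquiv.symm_apply_apply]⟩
    push Not at htop htop'
    obtain ⟨x, hx⟩ := htop
    obtain ⟨y, hxy⟩ := exists_pair h hx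
    obtain ⟨x', hx'⟩ := htop'
    obtain ⟨y', hxy'⟩ := exists_pair h' hx'
    have e1 := card_eq h hxy
    have e2 := card_eq h' hxy'
    have hcc : Nat.card (Subgroup.centralizer ({x', y'} : Set E')) =
        Nat.card (Subgroup.centralizer ({x, y} : Set E)) :=
      Nat.eq_of_mul_eq_mul_left (pow_pos hp.out.pos 2) (by rw [← e1, ← e2, hm, hm'])
    obtain ⟨ψ, hψ⟩ := ih _ (hm ▸ card_centralizer_lt h hxy) _ _ (esData_centralizer h hxy)
      (fun g => Subtype.ext (he g.1)) _ _ (esData_centralizer h' hxy')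
      (fun g => Subtype.ext (he' g.1)) rfl hcc
    exact exists_glue h hxy h' hxy' (a := 0) (b := 0) (by simp [he]) (by simp [he])
      (by simp [he']) (by simp [he']) ψ (congrArg Subtype.val hψ)

/-- A non-central involution gives a dihedral pair. -/
theorem exists_dihedral_pair {E : Type u} [Group E] {z : E} (h : ESData 2 z) {x : E}
    (hx : x ∉ Subgroup.zpowers z) (hx2 : x ^ 2 = 1) :
    ∃ y : E, ⁅x, y⁆ = z ∧ y ^ 2 = 1 := by
  obtain ⟨y, hxy⟩ := exists_pair h hx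
  have hz2 : z * z = 1 := by rw [← sq]; exact h.z_pow
  obtain ⟨k, hk⟩ := Subgroup.mem_zpowers_iff.1 (h.pow_mem y)
  rcases Int.even_or_odd' k with ⟨t, rfl | rfl⟩
  · exact ⟨y, hxy, by rw [← hk, zpow_mul, zpow_ofNat, h.z_pow, one_zpow]⟩
  · have hy2 : y ^ 2 = z := by rw [← hk, zpow_add, zpow_mul, zpow_ofNat, h.z_pow, one_zpow, one_mul, zpow_one]
    refine ⟨x * y, ?_, ?_⟩
    · rw [← commutatorElement_inv, comm_mul_left h, commutatorElement_self, one_mul,
        show ⁅y, x⁆ = z⁻¹ by rw [← hxy, commutatorElement_inv], inv_inv]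
    · have hyx := swap_zpow h hxy 1 1
      simp only [zpow_one, mul_one] at hyx
      calc (x * y) ^ 2 = x * (y * x) * y := by rw [sq]; group
        _ = x * (x * y * z ^ (-1 : ℤ)) * y := by rw [hyx]
        _ = x ^ 2 * (y * (z ^ (-1 : ℤ) * y)) := by rw [sq]; group
        _ = x ^ 2 * (y ^ 2 * z ^ (-1 : ℤ)) := by rw [← commute_zpow h y, sq, sq, mul_assoc y y]
        _ = 1 := by rw [hx2, hy2, one_mul, zpow_neg_one, mul_inv_cancel]

/-- Without non-central involutions the order is at most `8`, and all non-central squares are `z`. -/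
theorem quaternion_case {E : Type u} [Group E] {z : E} (h : ESData 2 z)
    (hno : ∀ g : E, g ^ 2 = 1 → g ∈ Subgroup.zpowers z) :
    (∀ g : E, g ∉ Subgroup.zpowers z → g ^ 2 = z) ∧
    ∀ x y c : E, ⁅x, y⁆ = z → c ∈ Subgroup.centralizer ({x, y} : Set E) → c ∈ Subgroup.zpowers z := by
  have hsq : ∀ g : E, g ∉ Subgroup.zpowers z → g ^ 2 = z := by
    intro g hg
    obtain ⟨k, hk⟩ := Subgroup.mem_zpowers_iff.1 (h.pow_mem g)
    rcases Int.even_or_odd' k with ⟨t, rfl | rfl⟩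
    · exact absurd (hno g (by rw [← hk, zpow_mul, zpow_ofNat, h.z_pow, one_zpow])) hg
    · rw [← hk, zpow_add, zpow_mul, zpow_ofNat, h.z_pow, one_zpow, one_mul, zpow_one]
  refine ⟨hsq, fun x y c hxy hc => ?_⟩
  by_contra hcz
  have hxz : x ∉ Subgroup.zpowers z := by
    intro hxz
    have : ⁅x, y⁆ = 1 := commutatorElement_eq_one_iff_mul_comm.2
      ((Subgroup.mem_center_iff.1 ((h.mem_center x).2 hxz) y).symm)
    exact h.z_ne (hxy.symm.trans this)
  obtain ⟨hc1, hc2⟩ := (mem_pairCentralizer h).1 hc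
  have h1 : (x * c) ^ 2 = 1 := by
    rw [Commute.mul_pow hc1, hsq x hxz, hsq c hcz, ← sq, h.z_pow]
  have h2 := hno _ h1
  have h3 : ⁅x * c, y⁆ = 1 := commutatorElement_eq_one_iff_mul_comm.2
      ((Subgroup.mem_center_iff.1 ((h.mem_center _).2 h2) y).symm)
  rw [comm_mul_left h, commutatorElement_eq_one_iff_mul_comm.2 hc2.symm, mul_one] at h3
  exact h.z_ne (hxy.symm.trans h3)

/-- Either there is a pair of non-commuting involutions, or the group has order `≤ 8`, with a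
quaternion pair when it is not of order `2`. -/
theorem exists_pair_cases {E : Type u} [Group E] [Finite E] {z : E} (h : ESData 2 z) {x₀ : E}
    (hx₀ : x₀ ∉ Subgroup.zpowers z) :
    (∃ x y : E, ⁅x, y⁆ = z ∧ x ^ 2 = 1 ∧ y ^ 2 = 1) ∨
    (Nat.card E = 8 ∧ ∃ x y : E, ⁅x, y⁆ = z ∧ x ^ 2 = z ∧ y ^ 2 = z) := by
  haveI : Fact (Nat.Prime 2) := ⟨Nat.prime_two⟩
  by_cases hno : ∀ g : E, g ^ 2 = 1 → g ∈ Subgroup.zpowers z
  · obtain ⟨hsq, hC⟩ := quaternion_case h hno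
    obtain ⟨y, hxy⟩ := exists_pair h hx₀
    have hy : y ∉ Subgroup.zpowers z := fun hy => h.z_ne (hxy.symm.trans
      (commutatorElement_eq_one_iff_mul_comm.2
        (Subgroup.mem_center_iff.1 ((h.mem_center y).2 hy) x₀)))
    refine Or.inr ⟨?_, x₀, y, hxy, hsq _ hx₀, hsq _ hy⟩
    have hCeq : Subgroup.centralizer ({x₀, y} : Set E) = Subgroup.zpowers z :=
      le_antisymm (fun c hc => hC x₀ y c hxy hc) (Subgroup.zpowers_le.2 (z_mem h))
    rw [card_eq h hxy, hCeq, Nat.card_zpowers, orderOf_eq_prime h.z_pow h.z_ne]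
    norm_num
  · push Not at hno
    obtain ⟨x, hx2, hx⟩ := hno
    obtain ⟨y, hxy, hy2⟩ := exists_dihedral_pair h hx hx2
    exact Or.inl ⟨x, y, hxy, hx2, hy2⟩

/-- Extend an isomorphism of pair centralisers across two pairs with the same squares. -/
theorem glue_of_pairs {E : Type u} [Group E] {z : E} (h : ESData 2 z) {E' : Type v} [Group E']
    {z' : E'} (h' : ESData 2 z') (a : ℤ) {x y : E} {x' y' : E'} (hxy : ⁅x, y⁆ = z)
    (hxy' : ⁅x', y'⁆ = z') (hx : x ^ 2 = z ^ a) (hy : y ^ 2 = z ^ a) (hx' : x' ^ 2 = z' ^ a)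
    (hy' : y' ^ 2 = z' ^ a) (ψ : Subgroup.centralizer ({x, y} : Set E) ≃*
      Subgroup.centralizer ({x', y'} : Set E'))
    (hψ : ψ ⟨z, z_mem h⟩ = ⟨z', z_mem h'⟩) : ∃ φ : E ≃* E', φ z = z' :=
  haveI : Fact (Nat.Prime 2) := ⟨Nat.prime_two⟩
  exists_glue h hxy h' hxy' hx hy hx' hy' ψ (congrArg Subtype.val hψ)

/-- Two groups of order `8` with pairs of the same kind are isomorphic. -/
theorem exists_equiv_order_eight {A : Type u} [Group A] [Finite A] {B : Type v} [Group B]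
    [Finite B] {zA : A} {zB : B} (hA : ESData 2 zA) (hB : ESData 2 zB) {x y : A} {x' y' : B} (a : ℤ)
    (hcA : Nat.card A = 8) (hcB : Nat.card B = 8) (hxy : ⁅x, y⁆ = zA) (hxy' : ⁅x', y'⁆ = zB)
    (h1 : x ^ 2 = zA ^ a) (h2 : y ^ 2 = zA ^ a) (h3 : x' ^ 2 = zB ^ a) (h4 : y' ^ 2 = zB ^ a) :
    ∃ φ : A ≃* B, φ zA = zB := by
  haveI : Fact (Nat.Prime 2) := ⟨Nat.prime_two⟩
  have e1 := card_eq hA hxy
  have e2 := card_eq hB hxy'
  rw [hcA] at e1; rw [hcB] at e2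
  norm_num at e1 e2
  have hCA : ∀ g, g ∈ Subgroup.zpowers (⟨zA, z_mem hA⟩ : Subgroup.centralizer ({x, y} : Set A)) := by
    intro g
    have : Subgroup.zpowers (⟨zA, z_mem hA⟩ : Subgroup.centralizer ({x, y} : Set A)) = ⊤ :=
      Subgroup.eq_top_of_card_eq _ (by
        rw [Nat.card_zpowers, Subgroup.orderOf_mk, orderOf_eq_prime hA.z_pow hA.z_ne]; omega)
    rw [this]; trivial
  obtain ⟨ψ, hψ⟩ := exists_equiv_of_card_eq (esData_centralizer hA hxy)
    (esData_centralizer hB hxy') hCA (by omega)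
  exact glue_of_pairs hA hB a hxy hxy' h1 h2 h3 h4 ψ hψ

/-- Among three extraspecial `2`-groups of equal order two are isomorphic. -/
theorem two_of_three {E₁ : Type u} [Group E₁] [Finite E₁] {z₁ : E₁} (h₁ : ESData 2 z₁)
    {E₂ : Type v} [Group E₂] [Finite E₂] {z₂ : E₂} (h₂ : ESData 2 z₂)
    {E₃ : Type w} [Group E₃] [Finite E₃] {z₃ : E₃} (h₃ : ESData 2 z₃)
    (h12 : Nat.card E₁ = Nat.card E₂) (h23 : Nat.card E₂ = Nat.card E₃) :
    (∃ φ : E₁ ≃* E₂, φ z₁ = z₂) ∨ (∃ φ : E₂ ≃* E₃, φ z₂ = z₃) ∨ (∃ φ : E₁ ≃* E₃, φ z₁ = z₃) := by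
  haveI : Fact (Nat.Prime 2) := ⟨Nat.prime_two⟩
  suffices key : ∀ (m : ℕ) (E₁ : Type u) [Group E₁] [Finite E₁] (z₁ : E₁), ESData 2 z₁ →
      ∀ (E₂ : Type v) [Group E₂] [Finite E₂] (z₂ : E₂), ESData 2 z₂ →
      ∀ (E₃ : Type w) [Group E₃] [Finite E₃] (z₃ : E₃), ESData 2 z₃ →
      Nat.card E₁ = m → Nat.card E₂ = m → Nat.card E₃ = m →
      (∃ φ : E₁ ≃* E₂, φ z₁ = z₂) ∨ (∃ φ : E₂ ≃* E₃, φ z₂ = z₃) ∨ (∃ φ : E₁ ≃* E₃, φ z₁ = z₃) from
    key _ E₁ z₁ h₁ E₂ z₂ h₂ E₃ z₃ h₃ rfl h12.symm (h12.trans h23).symm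
  intro m
  induction m using Nat.strong_induction_on with
  | _ m ih =>
    intro E₁ _ _ z₁ h₁ E₂ _ _ z₂ h₂ E₃ _ _ z₃ h₃ m₁ m₂ m₃
    by_cases htop : ∀ g : E₁, g ∈ Subgroup.zpowers z₁
    · exact Or.inl (exists_equiv_of_card_eq h₁ h₂ htop (m₁.trans m₂.symm))
    push Not at htop
    obtain ⟨u₁, hu₁⟩ := htop
    have hm : m ≠ 2 := by
      intro h2
      refine hu₁ (?_ : u₁ ∈ Subgroup.zpowers z₁)
      have : Subgroup.zpowers z₁ = ⊤ := Subgroup.eq_top_of_card_eq _ (by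
        rw [Nat.card_zpowers, orderOf_eq_prime h₁.z_pow h₁.z_ne, m₁, h2])
      rw [this]; trivial
    obtain ⟨u₂, hu₂⟩ : ∃ u, u ∉ Subgroup.zpowers z₂ := by
      by_contra hcon
      push Not at hcon
      exact hm (by rw [← m₂, ← orderOf_eq_card_of_forall_mem_zpowers hcon,
        orderOf_eq_prime h₂.z_pow h₂.z_ne])
    obtain ⟨u₃, hu₃⟩ : ∃ u, u ∉ Subgroup.zpowers z₃ := by
      by_contra hcon
      push Not at hcon
      exact hm (by rw [← m₃, ← orderOf_eq_card_of_forall_mem_zpowers hcon,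
        orderOf_eq_prime h₃.z_pow h₃.z_ne])
    rcases exists_pair_cases h₁ hu₁ with ⟨x₁, y₁, p₁, a₁, b₁⟩ | ⟨c₁, x₁, y₁, p₁, a₁, b₁⟩ <;>
      rcases exists_pair_cases h₂ hu₂ with ⟨x₂, y₂, p₂, a₂, b₂⟩ | ⟨c₂, x₂, y₂, p₂, a₂, b₂⟩ <;>
      rcases exists_pair_cases h₃ hu₃ with ⟨x₃, y₃, p₃, a₃, b₃⟩ | ⟨c₃, x₃, y₃, p₃, a₃, b₃⟩
    -- D D D
    · have e1 := card_eq h₁ p₁
      have e2 := card_eq h₂ p₂
      have e3 := card_eq h₃ p₃
      rw [m₁] at e1; rw [m₂] at e2; rw [m₃] at e3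
      rcases ih _ (m₁ ▸ card_centralizer_lt h₁ p₁) _ _ (esData_centralizer h₁ p₁) _ _
        (esData_centralizer h₂ p₂) _ _ (esData_centralizer h₃ p₃) rfl (by omega) (by omega) with
        ⟨ψ, hψ⟩ | ⟨ψ, hψ⟩ | ⟨ψ, hψ⟩
      · exact Or.inl (glue_of_pairs h₁ h₂ 0 p₁ p₂ (by simpa using a₁) (by simpa using b₁)
          (by simpa using a₂) (by simpa using b₂) ψ hψ)
      · exact Or.inr (Or.inl (glue_of_pairs h₂ h₃ 0 p₂ p₃ (by simpa using a₂) (by simpa using b₂)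
          (by simpa using a₃) (by simpa using b₃) ψ hψ))
      · exact Or.inr (Or.inr (glue_of_pairs h₁ h₃ 0 p₁ p₃ (by simpa using a₁) (by simpa using b₁)
          (by simpa using a₃) (by simpa using b₃) ψ hψ))
    -- D D Q
    · exact Or.inl (exists_equiv_order_eight h₁ h₂ 0 (m₁.trans (m₃ ▸ c₃)) (m₂.trans (m₃ ▸ c₃)) p₁ p₂ (by simpa using a₁) (by simpa using b₁)
        (by simpa using a₂) (by simpa using b₂))
    -- D Q D
    · exact Or.inr (Or.inr (exists_equiv_order_eight h₁ h₃ 0 (m₁.trans (m₂ ▸ c₂)) (m₃.trans (m₂ ▸ c₂)) p₁ p₃ (by simpa using a₁)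
        (by simpa using b₁) (by simpa using a₃) (by simpa using b₃)))
    -- D Q Q
    · exact Or.inr (Or.inl (exists_equiv_order_eight h₂ h₃ 1 (m₂.trans (m₂ ▸ c₂)) (m₃.trans (m₂ ▸ c₂)) p₂ p₃ (by simpa using a₂)
        (by simpa using b₂) (by simpa using a₃) (by simpa using b₃)))
    -- Q D D
    · exact Or.inr (Or.inl (exists_equiv_order_eight h₂ h₃ 0 (m₂.trans (m₁ ▸ c₁)) (m₃.trans (m₁ ▸ c₁)) p₂ p₃ (by simpa using a₂)
        (by simpa using b₂) (by simpa using a₃) (by simpa using b₃)))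
    -- Q D Q
    · exact Or.inr (Or.inr (exists_equiv_order_eight h₁ h₃ 1 (m₁.trans (m₁ ▸ c₁)) (m₃.trans (m₁ ▸ c₁)) p₁ p₃ (by simpa using a₁)
        (by simpa using b₁) (by simpa using a₃) (by simpa using b₃)))
    -- Q Q D
    · exact Or.inl (exists_equiv_order_eight h₁ h₂ 1 (m₁.trans (m₁ ▸ c₁)) (m₂.trans (m₁ ▸ c₁)) p₁ p₂ (by simpa using a₁) (by simpa using b₁)
        (by simpa using a₂) (by simpa using b₂))
    -- Q Q Q
    · exact Or.inl (exists_equiv_order_eight h₁ h₂ 1 (m₁.trans (m₁ ▸ c₁)) (m₂.trans (m₁ ▸ c₁)) p₁ p₂ (by simpa using a₁) (by simpa using b₁)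
        (by simpa using a₂) (by simpa using b₂))

end Cfsg.Agent.Lib.Extraspecial
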